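import Groth.Agent.Lib.LimFun.Flat
import Groth.Agent.Lib.FpqcFun4.DimLT
import Groth.Agent.Lib.FibDim14.Semicont
import Groth.Agent.Lib.FibDim14.Comp

/-!
# Flatness in dimensions at least `n` descends to a stage
-/

universe u

open CategoryTheory CategoryTheory.Limits AlgebraicGeometry Opposite TopologicalSpace

set_option autoImplicit false
set_option linter.style.haveILetI false
set_option backward.isDefEq.respectTransparency false

noncomputable section

namespace Groth.Agent.LimFunDim32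

/-- A point in the closure of the set of points of residual degree at least `n` of a closed subset has a
generization in its fibre with this property. -/
theorem exists_rd_ge_of_mem_closure {X T : Scheme.{u}} (q : X ⟶ T) [LocallyOfFiniteType q] (Z : Closeds X) (n : ℕ)
    {z : X} (hz : z ∈ closure {y : X | y ∈ Z ∧ n ≤ FibDim14.rd q y}) :
    ∃ y, y ∈ Z ∧ n ≤ FibDim14.rd q y ∧ y ⤳ z ∧ q y = q z := by
  let I : X.IdealSheafData := Scheme.IdealSheafData.vanishingIdeal Z
  let i := I.subschemeι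
  have hrange : Set.range i = (Z : Set X) := by
    rw [Scheme.IdealSheafData.range_subschemeι]
    simp [I]
  rcases Nat.eq_zero_or_pos n with hn | hn
  · subst hn
    have hzZ : z ∈ Z := closure_minimal (fun y hy => hy.1) Z.isClosed hz
    exact ⟨z, hzZ, Nat.zero_le _, specializes_rfl, rfl⟩
  let g := i ≫ q
  have hrd : ∀ w, FibDim14.rd g w = FibDim14.rd q (i w) := fun w => by
    rw [FibDim14.rd_comp i q w, FibDim14.rd_of_surjectiveOnStalks i w, add_zero]
  let B : Set ↥I.subscheme := {w | FlatMor.fibreDimAt g w ≤ ((n - 1 : ℕ) : WithBot ℕ∞)}ᶜ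
  have hB : IsClosed B := (FibDim14.isOpen_fibreDimAt_le g (n - 1)).isClosed_compl
  have hsub : {y : X | y ∈ Z ∧ n ≤ FibDim14.rd q y} ⊆ i '' B := fun y hy => by
    obtain ⟨w, rfl⟩ : y ∈ Set.range i := hrange ▸ hy.1
    refine ⟨w, fun hw => ?_, rfl⟩
    have h1 := (FibDim14.fibreDimAt_le_iff g).1 hw w specializes_rfl rfl
    rw [hrd] at h1
    have := hy.2
    omega
  obtain ⟨w, hw, rfl⟩ := closure_minimal hsub (i.isClosedEmbedding.isClosedMap B hB) hz
  obtain ⟨v, h1, h2, hd, -⟩ := FibDim14.exists_fibreDimAt_eq g w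
  refine ⟨i v, show i v ∈ (Z : Set X) from hrange ▸ ⟨v, rfl⟩, ?_, h1.map i.continuous, ?_⟩
  · by_contra hlt
    refine hw (show FlatMor.fibreDimAt g w ≤ _ from ?_)
    rw [hd, hrd]
    exact_mod_cast (by omega : FibDim14.rd q (i v) ≤ n - 1)
  · exact h2

/-- A family of closed subsets of a noetherian space has a member minimal among those indexed. -/
theorem exists_minimal_closeds {α ι : Type*} [TopologicalSpace α] [NoetherianSpace α] [Nonempty ι]
    (W : ι → Closeds α) : ∃ i, ∀ j, W j ≤ W i → W j = W i := by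
  have hwf : WellFoundedLT (Closeds α) := ((noetherianSpace_TFAE α).out 0 1).1 ‹_›
  obtain ⟨m, ⟨i, rfl⟩, hmin⟩ := hwf.wf.has_min (Set.range W) (Set.range_nonempty W)
  exact ⟨i, fun j hj => (eq_or_lt_of_le hj).resolve_right fun h => hmin _ ⟨j, rfl⟩ h⟩

variable {S X : Scheme.{u}} (f : X ⟶ S) (F : X.Modules) [Coh.IsQCoh F]
variable [QuasiCompact f] [LocallyOfFinitePresentation f] {I : Type u} [SmallCategory I] [IsCofiltered I]
  (D : I ⥤ Over S) (c : Cone D) (hc : IsLimit ((Over.forget S).mapCone c))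
  (hD : ∀ i, IsAffine (D.obj i).left) (n : ℕ)

include hc hD

/-- Flatness in dimensions at least `n` descends to a stage. -/
theorem exists_dim_stage (hF : CohB1.IsFP F) (h : FpqcFun4.P f F n c.pt) :
    ∃ i, FpqcFun4.P f F n (D.obj i) := by
  by_contra hcon
  simp only [not_exists] at hcon
  haveI : ∀ {i j} (a : i ⟶ j), IsAffineHom ((LimFun.sys f D).map a) := fun {i j} a => LimFun.sys_affine f D hD i j a
  haveI hlft : ∀ T : Over S, LocallyOfFiniteType (PicF.XTproj f T) := fun T =>
    MorphismProperty.pullback_snd _ _ inferInstance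
  have hZclosed : ∀ i, IsClosed {z | ¬ FlatMod.IsFlatOverAt (PicF.XTproj f (D.obj i)) (FGA.ET f F (D.obj i)) z} :=
    fun i => by
      haveI : Coh.IsQCoh (FGA.ET f F (D.obj i)) := M1.isQCoh_pullback _ inferInstance
      rw [← isOpen_compl_iff]
      simp only [Set.compl_setOf, not_not]
      exact @Groth.Agent.S4863.result _ _ (PicF.XTproj f (D.obj i))
        (MorphismProperty.pullback_snd (P := @LocallyOfFinitePresentation) f (D.obj i).hom ‹_›) _ _
        (M1.isFP_pullback _ hF)
  let Z : ∀ i, Closeds ↥(PicF.XT f (D.obj i)) := fun i => ⟨_, hZclosed i⟩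
  let E : ∀ i, Set ↥(PicF.XT f (D.obj i)) := fun i =>
    {y | y ∈ Z i ∧ n ≤ FibDim14.rd (PicF.XTproj f (D.obj i)) y}
  have hE : ∀ i, (E i).Nonempty := fun i => by
    by_contra hne
    refine hcon i fun z hz => (FpqcFun4.trdeg_lt_iff (PicF.XTproj f (D.obj i)) n z).2 ?_
    by_contra hlt
    exact hne ⟨z, hz, not_lt.1 hlt⟩
  have hmap : ∀ {i j : I} (a : i ⟶ j), (LimFun.sys f D).map a = PicF.XTmap f (D.map a) := fun {i j} a => by
    apply pullback.hom_ext
    · exact (Descend.pbMap_fst (D ⋙ Over.forget S) (LimFun.str D) f a).trans (HilbBC25.XTmap_fst f (D.map a)).symm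
    · exact (Descend.pbMap_snd (D ⋙ Over.forget S) (LimFun.str D) f a).trans (HilbBC25.XTmap_snd f (D.map a)).symm
  have hπ : ∀ i, (LimFun.sysCone f D c).π.app i = PicF.XTmap f (c.π.app i) := fun i => by
    apply pullback.hom_ext
    · exact (Descend.pbCone_fst (D ⋙ Over.forget S) (LimFun.str D) f ((Over.forget S).mapCone c) _ _ i).trans
        (HilbBC25.XTmap_fst f (c.π.app i)).symm
    · exact (Descend.pbCone_snd (D ⋙ Over.forget S) (LimFun.str D) f ((Over.forget S).mapCone c) _ _ i).trans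
        (HilbBC25.XTmap_snd f (c.π.app i)).symm
  obtain ⟨s, hs⟩ := exists_mem_of_isClosed_of_nonempty (LimFun.sys f D) (LimFun.sysCone f D c)
    (Descend.pbIsLimit (D ⋙ Over.forget S) (LimFun.str D) f ((Over.forget S).mapCone c) _ _ hc)
    (fun i => closure (E i)) (fun i => isClosed_closure) (fun i => (hE i).closure)
    (fun i => by
      haveI := LimFun.sys_compact f D hD i
      exact IsClosed.isCompact (X := ↥((LimFun.sys f D).obj i)) (h := isClosed_closure))
    (fun {i i'} a z hz => by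
      rw [hmap a]
      have hsub : E i ⊆ (PicF.XTmap f (D.map a)) ⁻¹' closure (E i') := fun y hy => subset_closure
        ⟨fun hflat => hy.1 (LimFun.flatAt_map f F (D.map a) y hflat),
          hy.2.trans (FibDim14.rd_baseChange_le (HilbBC25.isPullback_XTmap f (D.map a)) y)⟩
      exact closure_minimal hsub (isClosed_closure.preimage (PicF.XTmap f (D.map a)).continuous) hz)
  obtain ⟨i₀⟩ := IsCofiltered.nonempty (C := I)
  let q := PicF.XTproj f c.pt
  let t := q s
  let m := fun i => PicF.XTmap f (c.π.app i)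
  haveI : QuasiCompact q := MorphismProperty.pullback_snd (P := @QuasiCompact) f c.pt.hom ‹_›
  haveI : IsLocallyNoetherian (q.fiber t) := LocallyOfFiniteType.isLocallyNoetherian (FibDim14.toPt q t)
  haveI : IsNoetherian (q.fiber t) := { }
  let W : I → Closeds ↥(q.fiber t) := fun i =>
    ⟨((m i) ∘ (q.fiberι t)) ⁻¹' ((Z i : Closeds _) : Set ↥(PicF.XT f (D.obj i))),
      (Z i).isClosed.preimage ((m i).continuous.comp (q.fiberι t).continuous)⟩
  have hW : ∀ {i j : I} (_ : i ⟶ j), W i ≤ W j := fun {i j} a w hw hflat => by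
    refine hw (LimFun.flatAt_map f F (D.map a) _ ?_)
    have hmm : m i ≫ PicF.XTmap f (D.map a) = m j := by
      show _ = PicF.XTmap f (c.π.app j)
      rw [← HilbBC25.XTmap_comp]
      exact congrArg (PicF.XTmap f) (Cone.w c a)
    show FlatMod.IsFlatOverAt _ _ (PicF.XTmap f (D.map a) (m i (q.fiberι t w)))
    rw [← Scheme.Hom.comp_apply, hmm]
    exact hflat
  haveI : Nonempty I := ⟨i₀⟩
  obtain ⟨i₁, hi₁⟩ := exists_minimal_closeds W
  have hnf : ∀ w ∈ W i₁, ¬ FlatMod.IsFlatOverAt q (FGA.ET f F c.pt) (q.fiberι t w) := fun w hw hflat => by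
    obtain ⟨i, hi⟩ := LimFun.exists_flatAt_stage f F D c hc hD hF _ hflat
    have hk : W (IsCofiltered.min i i₁) = W i₁ := hi₁ _ (hW (IsCofiltered.minToRight i i₁))
    have hw' : w ∈ W i := hW (IsCofiltered.minToLeft i i₁) (hk.symm ▸ hw)
    exact hw' hi
  have hsi : m i₁ s ∈ closure (E i₁) := by
    have := hs i₁
    rw [hπ i₁] at this
    exact this
  obtain ⟨y, hyZ, hyn, -, hyt⟩ := exists_rd_ge_of_mem_closure (PicF.XTproj f (D.obj i₁)) (Z i₁) n hsi
  have hsq := HilbBC25.isPullback_XTmap f (c.π.app i₁)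
  have ht : PicF.XTproj f (D.obj i₁) y = (c.π.app i₁).left t := by
    rw [hyt, ← Scheme.Hom.comp_apply, hsq.w]
    rfl
  obtain ⟨x, hxy, hxt, hxr⟩ := FibDim14.exists_over_rd_eq hsq y t ht
  obtain ⟨w, rfl⟩ : x ∈ Set.range (q.fiberι t) := (q.range_fiberι t).symm ▸ hxt
  have hw : w ∈ W i₁ := show m i₁ (q.fiberι t w) ∈ Z i₁ from hxy.symm ▸ hyZ
  have := (FpqcFun4.trdeg_lt_iff q n _).1 (h _ (hnf w hw))
  have hxr' : FibDim14.rd q (q.fiberι t w) = FibDim14.rd (PicF.XTproj f (D.obj i₁)) y := hxr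
  omega

end Groth.Agent.LimFunDim32

end
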